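import Cfsg.Agent.INV.R2.Frm

/-!
The structure of a group with two normal commuting subgroups `SL₂`, without fusion hypothesis.
-/

set_option autoImplicit false

namespace CL.R2

open Matrix Subgroup CL.ABG CL.GL2 CL.MSS
open scoped MatrixGroups

namespace Two

variable {G F₁ F₂ : Type*} [Group G] [Field F₁] [Fintype F₁] [Field F₂] [Fintype F₂]
  (Γ : Two G F₁ F₂)

/-- The structure of `C(j)`: `DD` without the fusion statement. -/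
structure DZ : Prop where
  fix : ∀ h, Commute h Γ.j → Γ.Fix h
  cent : ∀ h, (∀ s, Commute h (Γ.ι₁ s)) → (∀ s, Commute h (Γ.ι₂ s)) → h = 1 ∨ h = Γ.j
  lin : ∀ h a b, Γ.Lin h a b → (IsSquare a.det ↔ IsSquare b.det)
  odd₁ : ∀ h a σ, Acts Γ.ι₁ h a σ → Odd (orderOf σ)
  odd₂ : ∀ h a σ, Acts Γ.ι₂ h a σ → Odd (orderOf σ)
  out : ∃ d a b, d * d = 1 ∧ Γ.Lin d a b ∧ ¬ IsSquare a.det

/-- A second involution of `C(j)` and its action. -/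
structure Fz (t : G) (a : Matrix (Fin 2) (Fin 2) F₁) (b : Matrix (Fin 2) (Fin 2) F₂) : Prop where
  dd : Γ.DZ
  lin : Γ.Lin t a b
  sq : t * t = 1
  ne1 : t ≠ 1
  nej : t ≠ Γ.j

variable {Γ} {t g h k : G} {a a' : Matrix (Fin 2) (Fin 2) F₁} {b b' : Matrix (Fin 2) (Fin 2) F₂}

namespace DZ

variable (D : Γ.DZ)
include D

theorem swap : Γ.swap.DZ :=
  ⟨fun h e => (D.fix h (Γ.swap_j ▸ e)).symm, fun h e e' => Γ.swap_j ▸ D.cent h e' e,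
    fun h a b e => (D.lin h b a e.symm).symm, D.odd₂, D.odd₁, by
      obtain ⟨d, a, b, h1, h2, h3⟩ := D.out
      exact ⟨d, b, a, h1, h2.swap, mt (D.lin _ _ _ h2).2 h3⟩⟩

theorem conj (g : G) : (Γ.conj g).DZ := by
  have e : ∀ h : G, ∃ k, h = g * k * g⁻¹ := fun h => ⟨g⁻¹ * h * g, by group⟩
  have c : ∀ {x y : G}, Commute (g * x * g⁻¹) (g * y * g⁻¹) → Commute x y := fun h =>
    (MulAut.conj g).injective (by simpa only [map_mul, MulAut.conj_apply] using h.eq)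
  refine ⟨fun h hc => ?_, fun h h1 h2 => ?_, fun h a b H => ?_, fun h a σ H => ?_,
    fun h a σ H => ?_, ?_⟩
  · obtain ⟨k, rfl⟩ := e h
    refine (D.fix k (c hc)).imp (fun e s => (e s).imp fun _ e => ?_) fun e s => (e s).imp fun _ e => ?_
    · rw [conj_ι₁, conj_ι₁, ← e]; group
    · rw [conj_ι₂, conj_ι₂, ← e]; group
  · obtain ⟨k, rfl⟩ := e h
    exact (D.cent k (fun s => c (h1 s)) fun s => c (h2 s)).imp (fun e => by simp [e])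
      fun e => by rw [e, conj_j]
  · obtain ⟨k, rfl⟩ := e h
    exact D.lin k a b H.of_conj
  · obtain ⟨k, rfl⟩ := e h
    exact D.odd₁ k a σ (Acts.of_map (f := (MulAut.conj g).toMonoidHom) (MulAut.conj g).injective H)
  · obtain ⟨k, rfl⟩ := e h
    exact D.odd₂ k a σ (Acts.of_map (f := (MulAut.conj g).toMonoidHom) (MulAut.conj g).injective H)
  · obtain ⟨d, a, b, h1, h2, h3⟩ := D.out
    exact ⟨_, a, b, by rw [conj_mul, h1]; simp, h2.conj g, h3⟩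

/-- Elements with the same action differ by `j`. -/
theorem eq_or (H : Γ.Lin h a b) (H' : Γ.Lin k a b) : k = h ∨ k = h * Γ.j := by
  have := H.inv.mul H'
  rw [adjugate_mul, adjugate_mul] at this
  exact (D.cent _ (this.1.comm_of_isScal (isScal_smul_one _))
    (this.2.comm_of_isScal (isScal_smul_one _))).imp (fun e => (inv_mul_eq_one.1 e).symm)
    inv_mul_eq_iff_eq_mul.1

theorem exists_eq (H : Γ.Lin h a b) (hs : IsSquare a.det) : ∃ s r, h = Γ.ι₁ s * Γ.ι₂ r ∧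
    (∃ c : F₁, c ≠ 0 ∧ a = c • s.1) ∧ ∃ c : F₂, c ≠ 0 ∧ b = c • r.1 := by
  obtain ⟨s, ⟨c, h0, rfl⟩, -⟩ := H.1.inner hs
  obtain ⟨r, ⟨c', h0', rfl⟩, -⟩ := H.2.inner ((D.lin _ _ _ H).1 hs)
  rcases D.eq_or (lin_mul s r) ⟨H.1.of_smul h0, H.2.of_smul h0'⟩ with e | e
  · exact ⟨s, r, e, ⟨c, h0, rfl⟩, c', h0', rfl⟩
  · exact ⟨s, -r, by rw [e, ι₂_neg, (j_comm₂ r).eq, mul_assoc], ⟨c, h0, rfl⟩, -c', neg_ne_zero.2 h0',
      by simp⟩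

theorem mem_Y (H : Γ.Lin h a b) : h ∈ Γ.Y ↔ IsSquare a.det := by
  refine ⟨fun e => ?_, fun e => ?_⟩
  · obtain ⟨s, r, rfl⟩ := Γ.mem_Y.1 e
    obtain ⟨-, c, -, rfl⟩ := (lin_mul s r).1.unique Γ.inj₁ H.1
    exact ⟨c, by rw [det_smul, s.2]; simp [sq]⟩
  · obtain ⟨s, r, e, -⟩ := D.exists_eq H e
    exact Γ.mem_Y.2 ⟨s, r, e.symm⟩

/-- A linear element centralising the first subgroup lies in the second. -/
theorem mem_L₂ (H : Acts Γ.ι₂ h b 1) (hc : ∀ s, Commute h (Γ.ι₁ s)) :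
    ∃ r, h = Γ.ι₂ r ∧ ∃ c : F₂, c ≠ 0 ∧ b = c • r.1 := by
  obtain ⟨r, ⟨c, h0, rfl⟩, -⟩ := H.inner ((D.lin _ _ _ ⟨acts_of_comm hc, H⟩).1 (by simp))
  rcases D.eq_or (lin_ι₂ r) ⟨acts_of_comm hc, H.of_smul h0⟩ with e | e
  · exact ⟨r, e, c, h0, rfl⟩
  · exact ⟨-r, by rw [e, ι₂_neg, (j_comm₂ r).eq], -c, neg_ne_zero.2 h0, by simp⟩

theorem real (ha : a.det ≠ 0) (hb : b.det ≠ 0) (e : IsSquare a.det ↔ IsSquare b.det) :
    ∃ h, Γ.Lin h a b := by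
  have key : ∀ {a : Matrix (Fin 2) (Fin 2) F₁} {b : Matrix (Fin 2) (Fin 2) F₂}, a.det ≠ 0 →
      b.det ≠ 0 → IsSquare a.det → IsSquare b.det → ∃ h, Γ.Lin h a b := by
    rintro a b ha hb ⟨c, hc⟩ ⟨d, hd⟩
    have h0 : c ≠ 0 := fun e => ha (by rw [hc, e, mul_zero])
    have h1 : d ≠ 0 := fun e => hb (by rw [hd, e, mul_zero])
    have := lin_mul (Γ := Γ) ⟨c⁻¹ • a, by rw [det_smul, hc]; simp [← sq, h0]⟩
      ⟨d⁻¹ • b, by rw [det_smul, hd]; simp [← sq, h1]⟩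
    exact ⟨_, this.1.of_smul (inv_ne_zero h0), this.2.of_smul (inv_ne_zero h1)⟩
  by_cases h : IsSquare a.det
  · exact key ha hb h (e.1 h)
  obtain ⟨d, c, c', -, H, h1⟩ := D.out
  obtain ⟨k, hk⟩ := key (a := c * a) (b := c' * b) (by rw [det_mul]; exact mul_ne_zero H.1.det ha)
    (by rw [det_mul]; exact mul_ne_zero H.2.det hb)
    (by rw [det_mul, isSquare_mul_iff H.1.det ha]; exact iff_of_false h1 h)
    (by rw [det_mul, isSquare_mul_iff H.2.det hb, ← e, ← D.lin _ _ _ H]; exact iff_of_false h1 h)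
  have := H.inv.mul hk
  simp only [← mul_assoc, adjugate_mul, smul_mul_assoc, one_mul] at this
  exact ⟨_, this.1.of_smul H.1.det, this.2.of_smul H.2.det⟩

theorem acts [Finite G] (hc : Commute h Γ.j) :
    ∃ a σ b τ, Acts Γ.ι₁ h a σ ∧ Acts Γ.ι₂ h b τ := by
  obtain ⟨a, σ, h1⟩ := exists_acts Γ.odd₁ Γ.inj₁ (D.fix h hc).1
  obtain ⟨b, τ, h2⟩ := exists_acts Γ.odd₂ Γ.inj₂ (D.fix h hc).2
  exact ⟨a, σ, b, τ, h1, h2⟩

/-- An element with a linear `2`-power is linear. -/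
theorem lin_of_pow [Finite G] (hc : Commute h Γ.j) {n : ℕ} (H : Γ.Lin (h ^ 2 ^ n) a b) :
    ∃ a b, Γ.Lin h a b := by
  obtain ⟨c, σ, c', τ, h1, h2⟩ := D.acts hc
  obtain ⟨_, h3⟩ := h1.pow (2 ^ n)
  obtain ⟨_, h4⟩ := h2.pow (2 ^ n)
  obtain rfl := eq_one_of_odd_of_two (D.odd₁ _ _ _ h1) (h3.unique Γ.inj₁ H.1).1
  obtain rfl := eq_one_of_odd_of_two (D.odd₂ _ _ _ h2) (h4.unique Γ.inj₂ H.2).1
  exact ⟨c, c', h1, h2⟩

theorem lin_of_two [Finite G] (hc : Commute h Γ.j) {n : ℕ} (e : h ^ 2 ^ n = 1) :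
    ∃ a b, Γ.Lin h a b :=
  D.lin_of_pow hc (n := n) (a := 1) (b := 1) (by rw [e]; exact ⟨acts_one _, acts_one _⟩)

theorem trace_of_sq₁ (H : Γ.Lin h a b) (h2 : h * h = 1) (h1 : h ≠ 1) (hj : h ≠ Γ.j) : a.trace = 0 :=
  (H.1.trace_of_sq Γ.inj₁ fun s => h2 ▸ Commute.one_left _).resolve_left fun e => by
    obtain ⟨r, rfl, -⟩ := D.mem_L₂ H.2 (H.1.comm_of_isScal e)
    exact (Γ.pair.s₂.inv _ ⟨r, rfl⟩ h2).elim h1 hj

/-- Involutions other than `j` act with trace zero. -/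
theorem trace_of_sq (H : Γ.Lin h a b) (h2 : h * h = 1) (h1 : h ≠ 1) (hj : h ≠ Γ.j) :
    a.trace = 0 ∧ b.trace = 0 :=
  ⟨D.trace_of_sq₁ H h2 h1 hj, D.swap.trace_of_sq₁ H.swap h2 h1 fun e => hj (e.trans Γ.swap_j)⟩

/-- Elements of trace zero of the same type are conjugate under `Y`. -/
theorem conj_of_trace (H : Γ.Lin h a b) (H' : Γ.Lin k a' b') (ha : a.trace = 0) (hb : b.trace = 0)
    (ha' : a'.trace = 0) (hb' : b'.trace = 0) (e : IsSquare a.det ↔ IsSquare a'.det) :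
    ∃ y ∈ Γ.Y, y * h * y⁻¹ = k := by
  obtain ⟨s, c, h0, e1⟩ := exists_conj_of_trace Γ.two₁ ha ha' H.1.det H'.1.det e
  obtain ⟨r, c', h0', e2⟩ := exists_conj_of_trace Γ.two₂ hb hb' H.2.det H'.2.det
    ((D.lin _ _ _ H).symm.trans (e.trans (D.lin _ _ _ H')))
  have h1 := ((lin_mul s r).mul H).mul (lin_mul s r).inv
  rw [e1, e2, mul_assoc (c • a'), mul_assoc (c' • b'), mul_adjugate, mul_adjugate, s.2, r.2, one_smul,
    one_smul, mul_one, mul_one] at h1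
  rcases D.eq_or ⟨h1.1.of_smul h0, h1.2.of_smul h0'⟩ H' with e3 | e3
  · exact ⟨_, Γ.mem_Y.2 ⟨s, r, rfl⟩, e3.symm⟩
  obtain ⟨w, h3⟩ := exists_anti Γ.two₁ ha H.1.det
  have h4 := H.1.conj (s := w) (s' := -w) (by
    rw [map_one_equiv, SpecialLinearGroup.coe_neg, neg_mul, h3, neg_neg])
  refine ⟨Γ.ι₁ s * Γ.ι₂ r * (Γ.ι₁ w)⁻¹, mul_mem (Γ.mem_Y.2 ⟨s, r, rfl⟩)
    (inv_mem (mem_sup_left ⟨_, rfl⟩)), ?_⟩
  rw [ι₁_neg, mul_inv_eq_iff_eq_mul] at h4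
  calc _ = Γ.ι₁ s * Γ.ι₂ r * (Γ.ι₁ w)⁻¹ * (h * Γ.ι₁ w) * (Γ.ι₁ s * Γ.ι₂ r)⁻¹ := by group
    _ = Γ.ι₁ s * Γ.ι₂ r * (Γ.j * h) * (Γ.ι₁ s * Γ.ι₂ r)⁻¹ := by rw [h4, (j_comm₁ w).eq]; group
    _ = k := by
      rw [e3, ← H.comm_j.eq, mul_assoc _ _ Γ.j, (lin_mul s r).inv.comm_j.eq]; group

/-- Elements acting with trace zero on both sides are involutions. -/
theorem sq_of_trace (H : Γ.Lin h a b) (ha : a.trace = 0) (hb : b.trace = 0) : h * h = 1 := by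
  classical
  by_cases e : IsSquare a.det
  · obtain ⟨s, r, rfl, ⟨c, h0, rfl⟩, c', h0', rfl⟩ := D.exists_eq H e
    rw [trace_smul, smul_eq_zero, or_iff_right h0] at ha
    rw [trace_smul, smul_eq_zero, or_iff_right h0'] at hb
    rw [(Γ.comm s r).symm.mul_mul_mul_comm, ← map_mul, ← map_mul, sq_eq_neg_one_of_trace ha,
      sq_eq_neg_one_of_trace hb, Γ.neg, Γ.jj]
  obtain ⟨d, c, c', d2, H', e'⟩ := D.out
  have h1 : d ∉ Γ.Y := mt (D.mem_Y H').1 e'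
  have := D.trace_of_sq H' d2 (fun e => h1 (e ▸ one_mem _)) fun e => h1 (e ▸ mem_sup_left ⟨_, rfl⟩)
  obtain ⟨y, -, rfl⟩ := D.conj_of_trace H' H this.1 this.2 ha hb (iff_of_false e' e)
  rw [conj_mul, d2, mul_one, mul_inv_cancel]

/-- Involutions of the same type are conjugate under `Y`. -/
theorem conj_invol [Finite G] (hc : Commute h Γ.j) (h2 : h * h = 1) (h1 : h ≠ 1) (hj : h ≠ Γ.j)
    (kc : Commute k Γ.j) (k2 : k * k = 1) (k1 : k ≠ 1) (kj : k ≠ Γ.j) (e : h ∈ Γ.Y ↔ k ∈ Γ.Y) :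
    ∃ y ∈ Γ.Y, y * h * y⁻¹ = k := by
  obtain ⟨a, b, H⟩ := D.lin_of_two hc (n := 1) (by simpa [sq] using h2)
  obtain ⟨a', b', H'⟩ := D.lin_of_two kc (n := 1) (by simpa [sq] using k2)
  have t := D.trace_of_sq H h2 h1 hj
  have t' := D.trace_of_sq H' k2 k1 kj
  exact D.conj_of_trace H H' t.1 t.2 t'.1 t'.2 ((D.mem_Y H).symm.trans (e.trans (D.mem_Y H')))

theorem mul_self_mem_Y (H : Γ.Lin h a b) : h * h ∈ Γ.Y :=
  (D.mem_Y (H.mul H)).2 ⟨_, det_mul _ _⟩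

end DZ

theorem DZ.exists_fz [Finite G] (D : Γ.DZ) (hc : Commute t Γ.j) (h2 : t * t = 1) (h1 : t ≠ 1)
    (hj : t ≠ Γ.j) : ∃ a b, Γ.Fz t a b := by
  obtain ⟨a, b, H⟩ := D.lin_of_two hc (n := 1) (by simpa [sq] using h2)
  exact ⟨a, b, D, H, h2, h1, hj⟩

namespace Fz

variable (Φ : Γ.Fz t a b)
include Φ

theorem swap : Γ.swap.Fz t b a :=
  ⟨Φ.dd.swap, Φ.lin.swap, Φ.sq, Φ.ne1, fun e => Φ.nej (e.trans Γ.swap_j)⟩

theorem conj (g : G) : (Γ.conj g).Fz (g * t * g⁻¹) a b :=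
  ⟨Φ.dd.conj g, Φ.lin.conj g, by rw [conj_mul, Φ.sq]; simp, mt conj_eq_one_iff.1 Φ.ne1,
    fun e => Φ.nej ((MulAut.conj g).injective e)⟩

theorem comm : Commute t Γ.j := Φ.lin.comm_j

theorem t_inv : t⁻¹ = t := inv_eq_of_mul_eq_one_right Φ.sq

theorem mul_j : Γ.Fz (Γ.j * t) a b :=
  ⟨Φ.dd, Φ.lin.j_mul, by rw [Φ.comm.mul_mul_mul_comm, Γ.jj, Φ.sq, one_mul],
    fun e => Φ.nej (by rw [← Γ.j_inv, eq_inv_iff_mul_eq_one, Φ.comm.eq, e]),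
    fun e => Φ.ne1 (by simpa using e)⟩

theorem tr₁ : a.trace = 0 := (Φ.dd.trace_of_sq Φ.lin Φ.sq Φ.ne1 Φ.nej).1
theorem tr₂ : b.trace = 0 := Φ.swap.tr₁
theorem ns₁ : ¬ IsScal a := not_isScal_of_trace Γ.two₁ Φ.tr₁ Φ.lin.1.det
theorem ns₂ : ¬ IsScal b := Φ.swap.ns₁

theorem t_mem_T : t ∈ Γ.T a b := ⟨_, _, Φ.lin, rfl, rfl⟩

theorem mem_V {x : G} : x ∈ Γ.V t ↔ x = 1 ∨ x = Γ.j ∨ x = t ∨ x = Γ.j * t := by
  refine ⟨fun hx => ?_, ?_⟩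
  · rw [V, Set.insert_eq, Subgroup.closure_union, ← zpowers_eq_closure, ← zpowers_eq_closure,
      mem_sup_of_normalizes_right (zpowers_le.2 (centralizer_le_normalizer _ (by
        rintro _ ⟨n, rfl⟩; exact Φ.comm.zpow_left n)))] at hx
    obtain ⟨u, hu, v, hv, rfl⟩ := hx
    rcases eq_or_of_mem_zpowers Γ.jj hu with e | e <;>
      rcases eq_or_of_mem_zpowers Φ.sq hv with e' | e' <;> simp [e, e']
  · have h1 : Γ.j ∈ Γ.V t := subset_closure (by simp)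
    have h2 : t ∈ Γ.V t := subset_closure (by simp)
    rintro (rfl | rfl | rfl | rfl)
    exacts [one_mem _, h1, h2, mul_mem h1 h2]

theorem j_mem_V : Γ.j ∈ Γ.V t := Φ.mem_V.2 (by simp)
theorem t_mem_V : t ∈ Γ.V t := Φ.mem_V.2 (by simp)

theorem V_le_T : Γ.V t ≤ Γ.T a b :=
  (closure_le _).2 (by rintro _ (rfl | rfl); exacts [j_mem_T, Φ.t_mem_T])

theorem mem_cent_V : h ∈ centralizer (Γ.V t : Set G) ↔ Commute h Γ.j ∧ Commute h t := by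
  rw [centralizer_closure]
  exact ⟨fun e => ⟨(e _ (by simp)).symm, (e _ (by simp)).symm⟩, by
    rintro ⟨h1, h2⟩ _ (rfl | rfl); exacts [h1.symm, h2.symm]⟩

theorem mem_norm_V [Finite G] (h1 : g * Γ.j * g⁻¹ ∈ Γ.V t) (h2 : g * t * g⁻¹ ∈ Γ.V t) :
    g ∈ normalizer (Γ.V t : Set G) := mem_normalizer_fintype fun x hx => by
  rcases Φ.mem_V.1 hx with rfl | rfl | rfl | rfl
  exacts [by simp, h1, h2, by rw [← conj_mul]; exact mul_mem h1 h2]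

theorem anti₁ {w : SL(2, F₁)} (hw : w.1 * a = -(a * w.1)) :
    Γ.ι₁ w * t * (Γ.ι₁ w)⁻¹ = Γ.j * t := by
  have := Φ.lin.1.conj (s := w) (s' := -w) (by
    rw [map_one_equiv, SpecialLinearGroup.coe_neg, neg_mul, hw, neg_neg])
  rw [ι₁_neg, mul_inv_eq_iff_eq_mul, mul_assoc] at this
  rw [mul_inv_eq_iff_eq_mul, mul_assoc, this, ← mul_assoc Γ.j, Γ.jj, one_mul]

theorem anti₂ {w : SL(2, F₂)} (hw : w.1 * b = -(b * w.1)) :
    Γ.ι₂ w * t * (Γ.ι₂ w)⁻¹ = Γ.j * t := Γ.swap_j ▸ Φ.swap.anti₁ hw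

theorem exists_w₁ : ∃ w : SL(2, F₁), w.1 * a = -(a * w.1) := exists_anti Γ.two₁ Φ.tr₁ Φ.lin.1.det
theorem exists_w₂ : ∃ w : SL(2, F₂), w.1 * b = -(b * w.1) := Φ.swap.exists_w₁

theorem sq_of_anti (H : Γ.Lin h a' b') (h1 : a' * a = -(a * a')) (h2 : b' * b = -(b * b')) :
    h * h = 1 :=
  Φ.dd.sq_of_trace H (trace_of_anti Γ.two₁ Φ.lin.1.det h1) (trace_of_anti Γ.two₂ Φ.lin.2.det h2)

/-- Elements anticommuting with `t` on both sides invert the torus. -/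
theorem inv_of_anti (H : Γ.Lin h a' b') (h1 : a' * a = -(a * a')) (h2 : b' * b = -(b * b'))
    (hk : k ∈ Γ.T a b) : h * k * h⁻¹ = k⁻¹ := by
  obtain ⟨c, c', H', h3, h4⟩ := hk
  have := Φ.sq_of_anti (H'.mul H) (anti_mul h3 h1) (anti_mul h4 h2)
  rw [inv_eq_of_mul_eq_one_right (Φ.sq_of_anti H h1 h2), eq_inv_iff_mul_eq_one, mul_eq_one_comm,
    ← this, mul_assoc, mul_assoc]

theorem T_comm (hh : h ∈ Γ.T a b) (hk : k ∈ Γ.T a b) : Commute h k := by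
  obtain ⟨w, hw⟩ := Φ.exists_w₁
  obtain ⟨u, hu⟩ := Φ.exists_w₂
  have e := fun x => Φ.inv_of_anti (k := x) (lin_mul w u) hw hu
  refine inv_injective ?_
  rw [← e _ (mul_mem hh hk), ← conj_mul, e _ hh, e _ hk, _root_.mul_inv_rev]

theorem cent_V_of_mem_T (hh : h ∈ Γ.T a b) : h ∈ centralizer (Γ.V t : Set G) :=
  fun _ hv => (Φ.T_comm hh (Φ.V_le_T hv)).symm

theorem comm_t_of_anti (H : Γ.Lin h a' b') (h1 : a' * a = -(a * a')) (h2 : b' * b = -(b * b')) :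
    Commute h t :=
  mul_inv_eq_iff_eq_mul.1 ((Φ.inv_of_anti H h1 h2 Φ.t_mem_T).trans Φ.t_inv)

theorem not_mixed (H : Γ.Lin h a' b') (hc : Commute h t) (h1 : a' * a = a * a')
    (h2 : b' * b = -(b * b')) : False := by
  obtain ⟨u, hu⟩ := Φ.exists_w₂
  have h3 := Φ.T_comm ⟨_, _, H.mul (lin_ι₂ u), by simpa using h1, anti_anti h2 hu⟩ Φ.t_mem_T
  have h4 : Commute (Γ.ι₂ u) t := by simpa using hc.inv_left.mul_left h3
  exact Γ.j_ne (by simpa [h4.eq] using (Φ.anti₂ hu).symm)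

theorem cases (H : Γ.Lin h a' b') (hc : Commute h t) :
    (a' * a = a * a' ∧ b' * b = b * b') ∨ (a' * a = -(a * a') ∧ b' * b = -(b * b')) := by
  rcases H.1.comm_or Γ.inj₁ Φ.lin.1 hc with e | e <;>
    rcases H.2.comm_or Γ.inj₂ Φ.lin.2 hc with e' | e'
  exacts [Or.inl ⟨e, e'⟩, (Φ.not_mixed H hc e e').elim, (Φ.swap.not_mixed H.swap hc e' e).elim,
    Or.inr ⟨e, e'⟩]

theorem mem_T_or (H : Γ.Lin h a' b') (hc : Commute h t) :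
    h ∈ Γ.T a b ∨ (h * h = 1 ∧ ∀ k ∈ Γ.T a b, h * k * h⁻¹ = k⁻¹) :=
  (Φ.cases H hc).imp (fun e => ⟨_, _, H, e⟩)
    fun e => ⟨Φ.sq_of_anti H e.1 e.2, fun _ => Φ.inv_of_anti H e.1 e.2⟩

theorem mem_V_of_sq (hh : h ∈ Γ.T a b) (h2 : h * h = 1) : h ∈ Γ.V t := by
  by_cases h1 : h = 1
  · exact h1 ▸ one_mem _
  by_cases hj : h = Γ.j
  · exact hj ▸ Φ.j_mem_V
  obtain ⟨c, c', H, e, e'⟩ := hh
  obtain ⟨e1, e2⟩ := Φ.dd.trace_of_sq H h2 h1 hj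
  obtain ⟨x, y, rfl⟩ := (commute_iff Φ.ns₁ c).1 e
  obtain ⟨x', y', rfl⟩ := (commute_iff Φ.ns₂ c').1 e'
  rw [trace_smul_add_smul, Φ.tr₁, mul_zero, add_zero, mul_eq_zero, or_iff_right Γ.two₁] at e1
  rw [trace_smul_add_smul, Φ.tr₂, mul_zero, add_zero, mul_eq_zero, or_iff_right Γ.two₂] at e2
  rw [e1, e2, zero_smul, zero_smul, zero_add, zero_add] at H
  rcases Φ.dd.eq_or Φ.lin ⟨H.1.of_smul fun e => H.1.det (by simp [e]),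
    H.2.of_smul fun e => H.2.det (by simp [e])⟩ with e | e
  exacts [e ▸ Φ.t_mem_V, e ▸ mul_mem Φ.t_mem_V Φ.j_mem_V]

theorem mem_T_iff [Finite G] : h ∈ Γ.T a b ↔ Tor (Γ.V t) h := by
  obtain ⟨w, hw⟩ := Φ.exists_w₁
  obtain ⟨u, hu⟩ := Φ.exists_w₂
  have H := lin_mul (Γ := Γ) w u
  have c := Φ.mem_cent_V.2 ⟨H.comm_j, Φ.comm_t_of_anti H hw hu⟩
  refine ⟨fun hh => ⟨⟨_, mul_mem (Φ.cent_V_of_mem_T hh) c, _, c, ?_, Φ.sq_of_anti H hw hu,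
    by rw [mul_assoc, Φ.sq_of_anti H hw hu, mul_one]⟩, Φ.mem_V_of_sq hh⟩, ?_⟩
  · obtain ⟨_, _, H', h3, h4⟩ := hh
    exact Φ.sq_of_anti (H'.mul H) (anti_mul h3 hw) (anti_mul h4 hu)
  · rintro ⟨⟨x, hx, y, hy, x2, y2, rfl⟩, h2⟩
    rw [Φ.mem_cent_V] at hx hy
    obtain ⟨_, _, H1⟩ := Φ.dd.lin_of_two hx.1 (n := 1) (by simpa [pow_two] using x2)
    obtain ⟨_, _, H2⟩ := Φ.dd.lin_of_two hy.1 (n := 1) (by simpa [pow_two] using y2)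
    exact (Φ.mem_T_or (H1.mul H2) (hx.2.mul_left hy.2)).elim id fun e => Φ.V_le_T (h2 e.1)

theorem conj_mem_T [Finite G] (hg : g ∈ normalizer (Γ.V t : Set G)) (hh : h ∈ Γ.T a b) :
    g * h * g⁻¹ ∈ Γ.T a b := Φ.mem_T_iff.2 ((Φ.mem_T_iff.1 hh).conj hg)

theorem T_conj [Finite G] (hg : g ∈ normalizer (Γ.V t : Set G)) : (Γ.conj g).T a b = Γ.T a b :=
  Subgroup.ext fun h => by rw [(Φ.conj g).mem_T_iff, Fr.V_conj hg, Φ.mem_T_iff]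

theorem comm₁_iff {s : SL(2, F₁)} : Commute t (Γ.ι₁ s) ↔ s ∈ centSL a := Φ.lin.1.comm_iff Γ.inj₁
theorem comm₂_iff {s : SL(2, F₂)} : Commute t (Γ.ι₂ s) ↔ s ∈ centSL b := Φ.lin.2.comm_iff Γ.inj₂

theorem ι₁_mem_T_iff {s : SL(2, F₁)} : Γ.ι₁ s ∈ Γ.T a b ↔ s ∈ centSL a :=
  ⟨fun e => Φ.comm₁_iff.1 (Φ.T_comm Φ.t_mem_T e), ι₁_mem_T⟩
theorem ι₂_mem_T_iff {s : SL(2, F₂)} : Γ.ι₂ s ∈ Γ.T a b ↔ s ∈ centSL b :=
  ⟨fun e => Φ.comm₂_iff.1 (Φ.T_comm Φ.t_mem_T e), ι₂_mem_T⟩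

theorem w₁_mem_norm [Finite G] {w : SL(2, F₁)} (hw : w.1 * a = -(a * w.1)) :
    Γ.ι₁ w ∈ normalizer (Γ.V t : Set G) :=
  Φ.mem_norm_V (by rw [(Γ.comm₁ w).eq, mul_inv_cancel_right]; exact Φ.j_mem_V)
    (Φ.anti₁ hw ▸ mul_mem Φ.j_mem_V Φ.t_mem_V)

theorem w₂_mem_norm [Finite G] {w : SL(2, F₂)} (hw : w.1 * b = -(b * w.1)) :
    Γ.ι₂ w ∈ normalizer (Γ.V t : Set G) := V_swap (Γ := Γ) ▸ Φ.swap.w₁_mem_norm hw
/-- An element of the torus commuting with the Weyl element of `L₁` lies in `L₂`. -/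
theorem mem_L₂_of_comm {w : SL(2, F₁)} (hw : w.1 * a = -(a * w.1)) (hh : h ∈ Γ.T a b)
    (hc : Commute h (Γ.ι₁ w)) : ∃ r ∈ centSL b, h = Γ.ι₂ r := by
  obtain ⟨c, c', H, e, e'⟩ := id hh
  obtain ⟨r, rfl, -⟩ := Φ.dd.mem_L₂ H.2 (H.1.comm_of_isScal (isScal_of_anti Γ.two₁ Φ.ns₁ Φ.lin.1.det
    w.det_ne_zero hw e ((H.1.comm_iff Γ.inj₁).1 hc).symm))
  exact ⟨r, Φ.ι₂_mem_T_iff.1 hh, rfl⟩

theorem inv₁ {w s : SL(2, F₁)} (hw : w.1 * a = -(a * w.1)) (hs : s ∈ centSL a) :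
    Γ.ι₁ w * Γ.ι₁ s * (Γ.ι₁ w)⁻¹ = (Γ.ι₁ s)⁻¹ := by
  obtain ⟨u, hu⟩ := Φ.exists_w₂
  rw [← Φ.inv_of_anti (lin_mul w u) hw hu (ι₁_mem_T hs), mul_assoc _ (Γ.ι₂ u), ← (Γ.comm s u).eq]
  group

theorem cyc₁ : IsCyclic (centSL a) := by
  classical
  by_cases hn : NoEig a
  · have := Fact.mk hn
    exact isCyclic_centSL
  · rw [noEig_iff] at hn
    push Not at hn
    obtain ⟨c, hc⟩ := hn
    exact isCyclic_centSL_split hc (sep_of_trace Γ.two₁ Φ.tr₁ Φ.lin.1.det c hc)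

theorem card₁ : (IsSquare (-a.det) ∧ Nat.card (centSL a) = Fintype.card F₁ - 1) ∨
    (¬ IsSquare (-a.det) ∧ Nat.card (centSL a) = Fintype.card F₁ + 1) := by
  by_cases h : IsSquare (-a.det)
  · obtain ⟨c, hc⟩ := id h
    have : cp a c = 0 := by rw [cp_def, Φ.tr₁]; linear_combination -hc
    exact Or.inl ⟨h, card_centSL_split this (sep_of_trace Γ.two₁ Φ.tr₁ Φ.lin.1.det c this)⟩
  · exact Or.inr ⟨h, card_centSL_noEig (noEig_iff.2 fun c hc => h ⟨c, by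
      rw [cp_def, Φ.tr₁] at hc; linear_combination -hc⟩)⟩

end Fz

end Two

end CL.R2
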